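import Groth.Agent.Lib.KProj.Equiv

/-! # `K₀` of a class whose bounded complexes compute morphisms by roofs -/

set_option autoImplicit false
set_option maxHeartbeats 1000000
universe w v u

open CategoryTheory CategoryTheory.Limits CategoryTheory.Pretriangulated
open scoped ZeroObject

namespace GrothLib.KRoof20

open GrothLib.KProj

variable {A : Type u} [Category.{v} A] [Abelian A] [HasDerivedCategory.{w} A] {P : ObjectProperty A}

/-- Morphisms between bounded complexes in the class are roofs inside the class. -/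
def Roofs (P : ObjectProperty A) : Prop :=
  ∀ (E F : CochainComplex A ℤ), Bdd P E → Bdd P F → ∀ α : DerivedCategory.Q.obj E ⟶ DerivedCategory.Q.obj F,
    ∃ (G : CochainComplex A ℤ) (g : G ⟶ E) (h : G ⟶ F), Bdd P G ∧ QuasiIso g ∧
      DerivedCategory.Q.map g ≫ α = DerivedCategory.Q.map h

theorem chi_eq_of_quasiIso (hP : Resolving P) {E F : CochainComplex A ℤ} (hE : Bdd P E) (hF : Bdd P F)
    (g : E ⟶ F) [QuasiIso g] : chi P E = chi P F := by
  have h := chi_acyclic hP (bdd_mappingCone hP hE hF g) ((DerCat.quasiIso_iff_acyclic_mappingCone g).1 ‹_›)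
  rw [chi_mappingCone hP hE hF g, sub_eq_zero] at h
  exact h.symm

theorem chi_eq_of_iso' (hroof : Roofs P) (hP : Resolving P) {E F : CochainComplex A ℤ} (hE : Bdd P E)
    (hF : Bdd P F) (e : DerivedCategory.Q.obj E ≅ DerivedCategory.Q.obj F) : chi P E = chi P F := by
  obtain ⟨G, g, h, hG, hg, he⟩ := hroof E F hE hF e.hom
  haveI := hg
  haveI hgi : IsIso (DerivedCategory.Q.map g) := (DerivedCategory.isIso_Q_map_iff_quasiIso _ _).2 hg
  haveI : QuasiIso h := by
    refine (DerivedCategory.isIso_Q_map_iff_quasiIso _ _).1 ?_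
    rw [← he]
    exact @IsIso.comp_isIso _ _ _ _ _ _ _ hgi inferInstance
  rw [← chi_eq_of_quasiIso hP hG hE g, chi_eq_of_quasiIso hP hG hF h]

theorem exists_cone_iso' (hroof : Roofs P) (hP : Resolving P) {T : Triangle (DerivedCategory A)}
    (hT : T ∈ distTriang (DerivedCategory A)) {E F : CochainComplex A ℤ} (hE : Bdd P E) (hF : Bdd P F)
    (e₁ : DerivedCategory.Q.obj E ≅ T.obj₁) (e₂ : DerivedCategory.Q.obj F ≅ T.obj₂) :
    ∃ G, Bdd P G ∧ Nonempty (DerivedCategory.Q.obj G ≅ T.obj₃) ∧ chi P G = chi P F - chi P E := by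
  obtain ⟨E', g, h, hE', hg, he⟩ := hroof E F hE hF (e₁.hom ≫ T.mor₁ ≫ e₂.inv)
  haveI := hg
  haveI hgi : IsIso (DerivedCategory.Q.map g) := (DerivedCategory.isIso_Q_map_iff_quasiIso _ _).2 hg
  refine ⟨_, bdd_mappingCone hP hE' hF h, ⟨?_⟩,
    (chi_mappingCone hP hE' hF h).trans (by rw [chi_eq_of_quasiIso hP hE' hE g])⟩
  refine Triangle.π₃.mapIso (isoTriangleOfIso₁₂ _ T
    (DerivedCategory.mappingCone_triangle_distinguished h) hT ((@asIso _ _ _ _ (DerivedCategory.Q.map g) hgi) ≪≫ e₁) e₂ ?_)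
  change DerivedCategory.Q.map h ≫ e₂.hom = (DerivedCategory.Q.map g ≫ e₁.hom) ≫ T.mor₁
  rw [← he, Category.assoc, Category.assoc, Category.assoc, Category.assoc, e₂.inv_hom_id, Category.comp_id]

variable (Q : ObjectProperty (DerivedCategory A))

/-- **`K₀` of perfect objects is `K₀` of projectives.** -/
theorem exists_equiv (hP : Resolving P) (hroof : Roofs P)
    (hQ : ∀ K, Q K ↔ ∃ E, Bdd P E ∧ Nonempty (DerivedCategory.Q.obj E ≅ K)) :
    ∃ φ : KZero.K0sub P ≃+ KZero.K0tr Q,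
      (∀ X, P X → φ (KZero.clSub P X) = KZero.clTr Q ((DerivedCategory.singleFunctor A 0).obj X)) ∧
      ∀ E, Bdd P E → φ.symm (KZero.clTr Q (DerivedCategory.Q.obj E)) = chi P E := by
  classical
  let sI : ∀ (n : ℤ) (X : A), (DerivedCategory.singleFunctor A n).obj X ≅
      DerivedCategory.Q.obj ((CochainComplex.singleFunctor A n).obj X) := fun n X =>
    (DerivedCategory.singleFunctorIsoCompQ A n).app X
  have hQi : Q.IsClosedUnderIsomorphisms := ⟨fun {X Y} e hX => by
    obtain ⟨E, hE, ⟨e'⟩⟩ := (hQ X).1 hX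
    exact (hQ Y).2 ⟨E, hE, ⟨e' ≪≫ e⟩⟩⟩
  have hQQ : ∀ E, Bdd P E → Q (DerivedCategory.Q.obj E) := fun E hE => (hQ _).2 ⟨E, hE, ⟨Iso.refl _⟩⟩
  have hQs : ∀ (n : ℤ) (X : A), P X → Q ((DerivedCategory.singleFunctor A n).obj X) := fun n X hX =>
    Q.prop_of_iso (sI n X).symm (hQQ _ (bdd_single hP hX n))
  have hQ0 : Q (0 : DerivedCategory A) :=
    Q.prop_of_iso ((DerivedCategory.singleFunctor A 0).map_isZero (isZero_zero A)).isoZero
      (hQs 0 0 (hP.zero (isZero_zero A)))
  let c : DerivedCategory A → KZero.K0sub P := fun K =>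
    if h : Q K then chi P ((hQ K).1 h).choose else 0
  have hc : ∀ E K, Bdd P E → (DerivedCategory.Q.obj E ≅ K) → c K = chi P E := fun E K hE e => by
    have h : Q K := (hQ K).2 ⟨E, hE, ⟨e⟩⟩
    obtain ⟨hE', ⟨e'⟩⟩ := ((hQ K).1 h).choose_spec
    simp only [c, dif_pos h]
    exact chi_eq_of_iso' hroof hP hE' hE (e' ≪≫ e.symm)
  obtain ⟨f, hf⟩ := K0Sub.exists_lift (P := P)
    (fun X => KZero.clTr Q ((DerivedCategory.singleFunctor A 0).obj X))
    fun S hS h₁ h₂ h₃ =>
      KDer.clTr_add hS.singleTriangle_distinguished (hQs 0 _ h₁) (hQs 0 _ h₂) (hQs 0 _ h₃)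
  obtain ⟨g, hg⟩ := KDer.exists_lift (Q := Q) c fun T hT h₁ h₂ _ => by
    obtain ⟨E, hE, ⟨e₁⟩⟩ := (hQ _).1 h₁
    obtain ⟨F, hF, ⟨e₂⟩⟩ := (hQ _).1 h₂
    obtain ⟨G, hG, ⟨e₃⟩, hχ⟩ := exists_cone_iso' hroof hP hT hE hF e₁ e₂
    rw [hc E _ hE e₁, hc F _ hF e₂, hc G _ hG e₃, hχ]
    abel
  have hgQ : ∀ E, Bdd P E → g (KZero.clTr Q (DerivedCategory.Q.obj E)) = chi P E := fun E hE => by
    rw [hg _ (hQQ E hE), hc E _ hE (Iso.refl _)]
  have hgf : g.comp f = AddMonoidHom.id _ := K0Sub.hom_ext fun X hX => by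
    rw [AddMonoidHom.comp_apply, hf X hX, AddMonoidHom.id_apply, hg _ (hQs 0 X hX),
      hc _ _ (bdd_single hP hX 0) (sI 0 X).symm, chi_single X 0 hP]
    simp
  have hsingle : ∀ (n : ℤ) (X : A), P X →
      KZero.clTr Q ((DerivedCategory.singleFunctor A n).obj X) ∈ f.range := by
    intro n
    have step : ∀ (m : ℤ) (X : A), P X → KZero.clTr Q ((DerivedCategory.singleFunctor A m).obj X) =
        -KZero.clTr Q ((DerivedCategory.singleFunctor A (m + 1)).obj X) := fun m X hX => by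
      let e : ((DerivedCategory.singleFunctor A (m + 1)).obj X)⟦(1 : ℤ)⟧ ≅
          (DerivedCategory.singleFunctor A m).obj X :=
        ((DerivedCategory.singleFunctors A).shiftIso 1 m (m + 1) (by omega)).app X
      rw [← KDer.clTr_iso hQ0 e]
      exact KDer.clTr_shift_one hQ0 (hQs _ X hX) (Q.prop_of_iso e.symm (hQs _ X hX))
    induction n using Int.induction_on with
    | zero => exact fun X hX => ⟨KZero.clSub P X, hf X hX⟩
    | succ i ih =>
      intro X hX
      have := ih X hX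
      rw [step _ X hX] at this
      exact neg_mem_iff.1 this
    | pred i ih =>
      intro X hX
      rw [step _ X hX, sub_add_cancel]
      exact neg_mem (ih X hX)
  have hsurj : ∀ (n : ℕ) (a : ℤ) (E : CochainComplex A ℤ), (∀ i, P (E.X i)) →
      (∀ i : ℤ, i < a ∨ a + n - 1 < i → IsZero (E.X i)) →
      KZero.clTr Q (DerivedCategory.Q.obj E) ∈ f.range := by
    intro n
    induction n with
    | zero =>
      intro a E hE h
      have hz : IsZero E := by
        rw [IsZero.iff_id_eq_zero]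
        ext i
        exact (h i (by omega)).eq_of_src _ _
      rw [KDer.clTr_isZero (DerivedCategory.Q.map_isZero hz) (hQQ E ⟨⟨_, _, h⟩, hE⟩)]
      exact zero_mem _
    | succ n ih =>
      intro a E hE h
      obtain ⟨E', ι, π, w, hS, hE', h'⟩ := exists_split_lowest hP a _ h hE
      have b1 : Bdd P E' := ⟨⟨_, _, h'⟩, hE'⟩
      have b3 := bdd_single hP (hE a) a
      have hh := KDer.clTr_add (DerivedCategory.triangleOfSES_distinguished hS) (hQQ _ b1)
        (hQQ _ ⟨⟨_, _, h⟩, hE⟩) (hQQ _ b3)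
      change KZero.clTr Q (DerivedCategory.Q.obj E) = _ at hh
      rw [hh]
      refine add_mem (ih (a + 1) E' hE' fun i hi => h' i (by omega)) ?_
      show KZero.clTr Q (DerivedCategory.Q.obj ((CochainComplex.singleFunctor A a).obj (E.X a))) ∈ _
      rw [← KDer.clTr_iso hQ0 (sI a (E.X a))]
      exact hsingle a _ (hE a)
  have hbij : Function.Bijective f := by
    refine ⟨Function.LeftInverse.injective (g := g) fun x => DFunLike.congr_fun hgf x, fun y => ?_⟩
    obtain ⟨y, rfl⟩ := QuotientAddGroup.mk_surjective y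
    show _ ∈ f.range
    induction y using FreeAbelianGroup.induction_on with
    | zero => exact zero_mem _
    | of X =>
      obtain ⟨E, ⟨⟨a, b, h⟩, hE⟩, ⟨e⟩⟩ := (hQ X.1).1 X.2
      rw [← KDer.clTr_eq_mk X.2, ← KDer.clTr_iso hQ0 e]
      exact hsurj (b + 1 - a).toNat a E hE fun i hi => h i (by omega)
    | neg X h => exact neg_mem h
    | add x y hx hy => exact add_mem hx hy
  refine ⟨AddEquiv.ofBijective f hbij, hf, fun E hE => ?_⟩
  rw [AddEquiv.symm_apply_eq]
  obtain ⟨x, hx⟩ := hbij.2 (KZero.clTr Q (DerivedCategory.Q.obj E))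
  rw [← hgQ E hE, ← hx, show g (f x) = x from DFunLike.congr_fun hgf x]
  rfl

end GrothLib.KRoof20
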