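import Groth.Agent.Lib.StrictRes20.Perfect
import Mathlib.Algebra.Homology.DerivedCategory.Fractions
import Mathlib.CategoryTheory.Localization.CalculusOfFractions

/-! # Morphisms between strictly perfect complexes in the derived category -/

set_option autoImplicit false
set_option backward.isDefEq.respectTransparency false
set_option linter.style.haveILetI false
set_option maxHeartbeats 1000000
universe v u

open CategoryTheory CategoryTheory.Limits CategoryTheory.Pretriangulated AlgebraicGeometry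
attribute [local instance] HasDerivedCategory.standard

noncomputable section

namespace GrothLib.StrictRes20

section Descend

variable {A : Type u} [Category.{v} A] [Abelian A]

/-- Homotopies descend along an epimorphism which is an isomorphism above the bottom of the target. -/
theorem nonempty_homotopy_of_comp {K L F : CochainComplex A ℤ} (π : K ⟶ L) (f g : L ⟶ F) (a : ℤ)
    (hepi : ∀ i, Epi (π.f i)) (hiso : ∀ i, a < i → IsIso (π.f i)) (hF : ∀ i, i < a → IsZero (F.X i))
    (h : Homotopy (π ≫ f) (π ≫ g)) : Nonempty (Homotopy f g) := by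
  classical
  let k : ∀ i j, L.X i ⟶ F.X j := fun i j =>
    if _ : j + 1 = i then (if hi : a < i then (@asIso _ _ _ _ (π.f i) (hiso i hi)).inv ≫ h.hom i j else 0) else 0
  have key : ∀ i j, j + 1 = i → π.f i ≫ k i j = h.hom i j := fun i j hij => by
    dsimp only [k]
    rw [dif_pos hij]
    split
    · rename_i hi
      haveI := hiso i hi
      simp
    · exact (hF j (by omega)).eq_of_tgt _ _
  refine ⟨{ hom := k, zero := fun i j hij => dif_neg hij, comm := fun i => ?_ }⟩
  rw [dNext_eq k (show (ComplexShape.up ℤ).Rel i (i + 1) from rfl),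
    prevD_eq k (show (ComplexShape.up ℤ).Rel (i - 1) i by simp)]
  haveI := hepi i
  rw [← cancel_epi (π.f i), Preadditive.comp_add, Preadditive.comp_add, π.comm_assoc, key (i + 1) i rfl,
    reassoc_of% key i (i - 1) (by omega)]
  have hc := h.comm i
  rw [dNext_eq h.hom (show (ComplexShape.up ℤ).Rel i (i + 1) from rfl),
    prevD_eq h.hom (show (ComplexShape.up ℤ).Rel (i - 1) i by simp)] at hc
  simpa using hc

/-- The projection to a truncation, degreewise. -/
theorem epi_πTruncGE_f (K : CochainComplex A ℤ) (a i : ℤ) : Epi ((K.πTruncGE a).f i) := by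
  dsimp [CochainComplex.πTruncGE]
  infer_instance

theorem isIso_πTruncGE_f (K : CochainComplex A ℤ) (a i : ℤ) (hi : a < i) : IsIso ((K.πTruncGE a).f i) :=
  by
  have h : (ComplexShape.embeddingUpIntGE a).f (i - a).natAbs = i := by show a + ((i - a).natAbs : ℤ) = i; omega
  show IsIso ((HomologicalComplex.πTruncGE K (ComplexShape.embeddingUpIntGE a)).f i)
  dsimp only [HomologicalComplex.πTruncGE]
  rw [ComplexShape.Embedding.isIso_liftExtend_f_iff _ _ _ h]
  exact HomologicalComplex.isIso_restrictionToTruncGE' K _ _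
    (by rw [ComplexShape.boundaryGE_embeddingUpIntGE_iff]; omega)

end Descend

variable {X : Scheme.{u}}

local instance : ObjectProperty.ContainsZero (fun M : X.Modules => Coh.IsQCoh M) :=
  inferInstanceAs (QCohCat.isQCoh X).ContainsZero
local instance : ObjectProperty.IsClosedUnderKernels (fun M : X.Modules => Coh.IsQCoh M) :=
  inferInstanceAs (QCohCat.isQCoh X).IsClosedUnderKernels
local instance : ObjectProperty.IsClosedUnderCokernels (fun M : X.Modules => Coh.IsQCoh M) :=
  inferInstanceAs (QCohCat.isQCoh X).IsClosedUnderCokernels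
local instance : ObjectProperty.IsClosedUnderFiniteProducts (fun M : X.Modules => Coh.IsQCoh M) :=
  inferInstanceAs (QCohCat.isQCoh X).IsClosedUnderFiniteProducts
local instance : PreservesFiniteLimits (ObjectProperty.ι (fun M : X.Modules => Coh.IsQCoh M)) :=
  QCohCat20.preservesFiniteLimits_ι (X := X)
local instance : PreservesFiniteColimits (ObjectProperty.ι (fun M : X.Modules => Coh.IsQCoh M)) :=
  haveI : ∀ {A B : QCohCat.QCoh X} (f : A ⟶ B), PreservesColimit (parallelPair f 0) (QCohCat.isQCoh X).ι :=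
    fun {A B} f => (QCohCat.isQCoh X).preservesCokernels_ι f
  Functor.preservesFiniteColimits_of_preservesCokernels (QCohCat.isQCoh X).ι

/-- A complex of quasi-coherent modules as a complex in quasi-coherent modules. -/
def liftQC (E : CochainComplex X.Modules ℤ) (hE : ∀ i, Coh.IsQCoh (E.X i)) :
    CochainComplex (DQEquiv25.QC X) ℤ where
  X i := ⟨E.X i, hE i⟩
  d i j := ObjectProperty.homMk (E.d i j)
  shape i j h := by ext : 1; exact E.shape i j h
  d_comp_d' i j k _ _ := by ext : 1; exact E.d_comp_d i j k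

/-- A map of complexes of quasi-coherent modules. -/
def liftQCHom {E F : CochainComplex X.Modules ℤ} (hE : ∀ i, Coh.IsQCoh (E.X i)) (hF : ∀ i, Coh.IsQCoh (F.X i))
    (α : E ⟶ F) : liftQC E hE ⟶ liftQC F hF where
  f i := ObjectProperty.homMk (α.f i)
  comm' i j _ := by ext : 1; exact α.comm i j

variable [CompactSpace X] [QuasiSeparatedSpace X] (hX : PerfAux.HasResolutionProperty X)
include hX

omit [CompactSpace X] [QuasiSeparatedSpace X] hX in
/-- Truncating the source of a quasi-isomorphism to a bounded below complex. -/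
theorem exists_truncate {W E F : CochainComplex X.Modules ℤ} (a : ℤ) [E.IsStrictlyGE a] [F.IsStrictlyGE a]
    (hW : ∀ i, Coh.IsQCoh (W.X i)) (s : W ⟶ E) (f : W ⟶ F) [hs : IsIso (DerivedCategory.Q.map s)] :
    ∃ (W' : CochainComplex X.Modules ℤ) (π : W ⟶ W') (s' : W' ⟶ E) (f' : W' ⟶ F),
      (∀ i, i < a → IsZero (W'.X i)) ∧ (∀ i, Coh.IsQCoh (W'.X i)) ∧ IsIso (DerivedCategory.Q.map s') ∧
      IsIso (DerivedCategory.Q.map π) ∧ (∀ i, Epi (π.f i)) ∧ (∀ i, a < i → IsIso (π.f i)) ∧
      π ≫ s' = s ∧ π ≫ f' = f := by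
  haveI : (DCoh.toD X W).IsGE a :=
    DerivedCategory.TStructure.t.isGE_of_iso (asIso (DerivedCategory.Q.map s)).symm a
  haveI : W.IsGE a := (W.isGE_iff a).2 fun i hi => (HomologicalComplex.exactAt_iff_isZero_homology _ _).2
    ((DerivedCategory.isZero_of_isGE (DCoh.toD X W) a i hi).of_iso (OX.hdIso W i).symm)
  haveI : IsIso (DerivedCategory.Q.map (W.πTruncGE a)) :=
    (DerivedCategory.isIso_Q_map_iff_quasiIso _ _).2 inferInstance
  have h1 : W.πTruncGE a ≫ CochainComplex.truncGEMap s a ≫ inv (E.πTruncGE a) = s := by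
    rw [CochainComplex.πTruncGE_naturality_assoc, IsIso.hom_inv_id, Category.comp_id]
  have h2 : W.πTruncGE a ≫ CochainComplex.truncGEMap f a ≫ inv (F.πTruncGE a) = f := by
    rw [CochainComplex.πTruncGE_naturality_assoc, IsIso.hom_inv_id, Category.comp_id]
  refine ⟨W.truncGE a, W.πTruncGE a, CochainComplex.truncGEMap s a ≫ inv (E.πTruncGE a),
    CochainComplex.truncGEMap f a ≫ inv (F.πTruncGE a), fun i hi => CochainComplex.isZero_of_isStrictlyGE _ a i hi,
    fun i => ?_, ?_, inferInstance, fun i => epi_πTruncGE_f W a i, fun i hi => isIso_πTruncGE_f W a i hi, h1, h2⟩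
  · rcases lt_trichotomy i a with hn | hn | hn
    · exact OX.isQCoh_of_isZero (CochainComplex.isZero_of_isStrictlyGE _ a i hn)
    · subst hn
      haveI : (W.X (i - 1)).IsQuasicoherent := hW (i - 1)
      haveI : (W.X i).IsQuasicoherent := hW i
      exact OX.isQCoh_of_iso ((IsColimit.coconePointUniqueUpToIso (cokernelIsCokernel (W.d (i - 1) i))
        (W.opcyclesIsCokernel (i - 1) i (by simp))) ≪≫ (W.truncGEXIsoOpcycles i).symm)
          (QCoh.isQuasicoherent_cokernel _)
    · exact OX.isQCoh_of_iso (W.truncGEXIso a i hn).symm (hW i)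
  · haveI : IsIso (DerivedCategory.Q.map (W.πTruncGE a) ≫
        DerivedCategory.Q.map (CochainComplex.truncGEMap s a ≫ inv (E.πTruncGE a))) := by
      rw [← Functor.map_comp, h1]
      exact hs
    exact IsIso.of_isIso_comp_left (DerivedCategory.Q.map (W.πTruncGE a)) _

omit [CompactSpace X] [QuasiSeparatedSpace X] hX in
theorem qcoh_of_strictlyPerfect {E : CochainComplex X.Modules ℤ} (hE : DCoh.IsStrictlyPerfect E) (i : ℤ) :
    Coh.IsQCoh (E.X i) :=
  Euler.isQuasicoherent_of_isFinLocFree (hE.2 i)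

omit [CompactSpace X] [QuasiSeparatedSpace X] hX in
theorem exists_bound {E F : CochainComplex X.Modules ℤ} (hE : DCoh.IsStrictlyPerfect E)
    (hF : DCoh.IsStrictlyPerfect F) : ∃ a : ℤ, E.IsStrictlyGE a ∧ F.IsStrictlyGE a := by
  obtain ⟨⟨a₁, b₁, h₁⟩, -⟩ := hE
  obtain ⟨⟨a₂, b₂, h₂⟩, -⟩ := hF
  exact ⟨min a₁ a₂, (E.isStrictlyGE_iff _).2 fun i hi => h₁ i (Or.inl (by omega)),
    (F.isStrictlyGE_iff _).2 fun i hi => h₂ i (Or.inl (by omega))⟩

/-- **Morphisms are roofs of strictly perfect complexes.** -/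
theorem exists_roof {E F : CochainComplex X.Modules ℤ} (hE : DCoh.IsStrictlyPerfect E)
    (hF : DCoh.IsStrictlyPerfect F) (α : DCoh.toD X E ⟶ DCoh.toD X F) :
    ∃ (G : CochainComplex X.Modules ℤ) (g : G ⟶ E) (h : G ⟶ F), DCoh.IsStrictlyPerfect G ∧ QuasiIso g ∧
      DerivedCategory.Q.map g ≫ α = DerivedCategory.Q.map h := by
  let ι := DQEquiv25.qι X
  haveI := (Groth.Agent.S1048.result X fun U V hU hV => isAffineOpen_inf hX hU hV).1
  let fac := ι.mapDerivedCategoryFactors
  let CE := liftQC E (qcoh_of_strictlyPerfect hE)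
  let CF := liftQC F (qcoh_of_strictlyPerfect hF)
  obtain ⟨α', hα'⟩ := ι.mapDerivedCategory.map_surjective (fac.hom.app CE ≫ α ≫ fac.inv.app CF)
  obtain ⟨X', s, hs, g, hα''⟩ := DerivedCategory.right_fac α'
  haveI := hs
  let W : CochainComplex X.Modules ℤ := (ι.mapHomologicalComplex (ComplexShape.up ℤ)).obj X'
  let s₁ : W ⟶ E := (ι.mapHomologicalComplex (ComplexShape.up ℤ)).map s
  let g₁ : W ⟶ F := (ι.mapHomologicalComplex (ComplexShape.up ℤ)).map g
  have n1 : ι.mapDerivedCategory.map (DerivedCategory.Q.map s) ≫ fac.hom.app CE =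
      fac.hom.app X' ≫ DerivedCategory.Q.map s₁ := fac.hom.naturality s
  have n2 : ι.mapDerivedCategory.map (DerivedCategory.Q.map g) ≫ fac.hom.app CF =
      fac.hom.app X' ≫ DerivedCategory.Q.map g₁ := fac.hom.naturality g
  have hsg : DerivedCategory.Q.map s₁ ≫ α = DerivedCategory.Q.map g₁ := by
    rw [← cancel_epi (fac.hom.app X'), ← reassoc_of% n1, ← n2,
      show DerivedCategory.Q.map g = DerivedCategory.Q.map s ≫ α' by rw [hα'']; simp, Functor.map_comp, hα']
    simp only [Category.assoc, Iso.inv_hom_id_app]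
    exact congrArg (fun t => ι.mapDerivedCategory.map (DerivedCategory.Q.map s) ≫ fac.hom.app CE ≫ t)
      (Category.comp_id α).symm
  haveI : IsIso (DerivedCategory.Q.map s₁) := by
    haveI : IsIso (fac.hom.app X' ≫ DerivedCategory.Q.map s₁) := by rw [← n1]; infer_instance
    exact IsIso.of_isIso_comp_left (fac.hom.app X') _
  obtain ⟨a, _, _⟩ := exists_bound hE hF
  obtain ⟨W', π, s', f', h0, hq, hs', hπ, -, -, h1, h2⟩ :=
    exists_truncate a (fun i => (X'.X i).property) s₁ g₁
  haveI := hs'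
  obtain ⟨G, φ, hG, hφ⟩ := exists_strictlyPerfect_quasiIso hX W' ⟨a, h0⟩ hq
    (OX.isPerfect_of_iso (KSix19.ProjPush.isPerfect_Q E hE) (asIso (DerivedCategory.Q.map s')).symm)
  haveI : IsIso (DerivedCategory.Q.map φ) := (DerivedCategory.isIso_Q_map_iff_quasiIso _ _).2 hφ
  refine ⟨G, φ ≫ s', φ ≫ f', hG, (DerivedCategory.isIso_Q_map_iff_quasiIso _ _).1 ?_, ?_⟩
  · rw [Functor.map_comp]; infer_instance
  · rw [Functor.map_comp, Functor.map_comp, Category.assoc]
    refine congrArg (DerivedCategory.Q.map φ ≫ ·) ?_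
    haveI := hπ
    rw [← cancel_epi (DerivedCategory.Q.map π), ← Functor.map_comp, h2, ← hsg, ← h1, Functor.map_comp,
      Category.assoc]

/-- **Equal morphisms become homotopic after a quasi-isomorphism.** -/
theorem exists_homotopy {E F : CochainComplex X.Modules ℤ} (hE : DCoh.IsStrictlyPerfect E)
    (hF : DCoh.IsStrictlyPerfect F) (α β : E ⟶ F) (hαβ : DerivedCategory.Q.map α = DerivedCategory.Q.map β) :
    ∃ (G : CochainComplex X.Modules ℤ) (γ : G ⟶ E), DCoh.IsStrictlyPerfect G ∧ QuasiIso γ ∧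
      Nonempty (Homotopy (γ ≫ α) (γ ≫ β)) := by
  let ι := DQEquiv25.qι X
  haveI := (Groth.Agent.S1048.result X fun U V hU hV => isAffineOpen_inf hX hU hV).2.1
  let fac := ι.mapDerivedCategoryFactors
  have hEq := qcoh_of_strictlyPerfect hE
  have hFq := qcoh_of_strictlyPerfect hF
  let αC := liftQCHom hEq hFq α
  let βC := liftQCHom hEq hFq β
  have hC : DerivedCategory.Q.map αC = DerivedCategory.Q.map βC := by
    apply ι.mapDerivedCategory.map_injective
    rw [← cancel_mono (fac.hom.app (liftQC F hFq))]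
    exact (fac.hom.naturality αC).trans ((congrArg (fac.hom.app (liftQC E hEq) ≫ ·) hαβ).trans (fac.hom.naturality βC).symm)
  let q := HomotopyCategory.quotient (DQEquiv25.QC X) (ComplexShape.up ℤ)
  have hq : DerivedCategory.Qh.map (q.map αC) = DerivedCategory.Qh.map (q.map βC) := by
    let e := DerivedCategory.quotientCompQhIso (DQEquiv25.QC X)
    rw [← cancel_mono (e.hom.app (liftQC F hFq))]
    exact (e.hom.naturality αC).trans ((congrArg (e.hom.app (liftQC E hEq) ≫ ·) hC).trans (e.hom.naturality βC).symm)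
  obtain ⟨W₀, s, hs, hsαβ⟩ :=
    (MorphismProperty.map_eq_iff_precomp DerivedCategory.Qh (HomotopyCategory.quasiIso _ _) _ _).1 hq
  obtain ⟨W₁, rfl⟩ := HomotopyCategory.quotient_obj_surjective W₀
  obtain ⟨s₀, rfl⟩ := q.map_surjective s
  haveI : QuasiIso s₀ := (HomotopyCategory.quotient_map_mem_quasiIso_iff s₀).1 hs
  have hh : Homotopy (s₀ ≫ αC) (s₀ ≫ βC) :=
    HomotopyCategory.homotopyOfEq _ _ (by rw [Functor.map_comp, Functor.map_comp]; exact hsαβ)
  let M := ι.mapHomologicalComplex (ComplexShape.up ℤ)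
  let W : CochainComplex X.Modules ℤ := M.obj W₁
  let s₁ : W ⟶ E := M.map s₀
  haveI : QuasiIso s₁ := inferInstanceAs (QuasiIso (M.map s₀))
  haveI : IsIso (DerivedCategory.Q.map s₁) := (DerivedCategory.isIso_Q_map_iff_quasiIso _ _).2 inferInstance
  obtain ⟨a, _, _⟩ := exists_bound hE hF
  have hF0 : ∀ i, i < a → IsZero (F.X i) := fun i hi => CochainComplex.isZero_of_isStrictlyGE F a i hi
  obtain ⟨W', π, s', -, h0, hq', hs', -, hep, his, h1, -⟩ :=
    exists_truncate (F := E) a (fun i => (W₁.X i).property) s₁ s₁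
  have hh' : Homotopy (π ≫ (s' ≫ α)) (π ≫ (s' ≫ β)) :=
    ((Homotopy.ofEq (by rw [← Category.assoc, h1]; exact (M.map_comp s₀ αC).symm)).trans
      (ι.mapHomotopy hh)).trans (Homotopy.ofEq (by rw [← Category.assoc, h1]; exact M.map_comp s₀ βC))
  obtain ⟨h'⟩ := nonempty_homotopy_of_comp π _ _ a hep his hF0 hh'
  haveI := hs'
  obtain ⟨G, φ, hG, hφ⟩ := exists_strictlyPerfect_quasiIso hX W' ⟨a, h0⟩ hq'
    (OX.isPerfect_of_iso (KSix19.ProjPush.isPerfect_Q E hE) (asIso (DerivedCategory.Q.map s')).symm)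
  haveI : IsIso (DerivedCategory.Q.map φ) := (DerivedCategory.isIso_Q_map_iff_quasiIso _ _).2 hφ
  refine ⟨G, φ ≫ s', hG, (DerivedCategory.isIso_Q_map_iff_quasiIso _ _).1 ?_, ⟨?_⟩⟩
  · rw [Functor.map_comp]; infer_instance
  · exact ((Homotopy.ofEq (Category.assoc _ _ _)).trans (h'.compLeft φ)).trans
      (Homotopy.ofEq (Category.assoc _ _ _).symm)

end GrothLib.StrictRes20
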