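import Groth.Agent.Lib.DerCat.Acyclic
import Mathlib.Algebra.Homology.HomotopyCategory.MappingCone
import Mathlib.Algebra.Homology.Additive
import Mathlib.CategoryTheory.Abelian.Basic

/-! # Killing the top homology of a mapping cone by adding one term to the source -/

set_option autoImplicit false
set_option backward.isDefEq.respectTransparency false
set_option maxHeartbeats 1000000
universe v u

open CategoryTheory CategoryTheory.Limits HomologicalComplex
open CochainComplex CochainComplex.HomComplex

noncomputable section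

namespace GrothLib.StrictRes20

variable {A : Type u} [Category.{v} A] [Abelian A]

/-- A map of complexes which is an isomorphism in the degrees around `i` is an epimorphism in homology. -/
theorem epi_homologyMap_of_isIso {K L : CochainComplex A ℤ} (θ : K ⟶ L) (i : ℤ) (h1 : IsIso (θ.f i))
    (h2 : Mono (θ.f (i + 1))) : Epi (homologyMap θ i) := by
  haveI hz : IsIso (cyclesMap θ i) := by
    let w := L.iCycles i ≫ inv (θ.f i)
    have hw : w ≫ K.d i (i + 1) = 0 := by
      rw [← cancel_mono (θ.f (i + 1)), zero_comp, Category.assoc, ← θ.comm, ← Category.assoc]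
      simp [w]
    refine ⟨K.liftCycles w (i + 1) (by simp) hw, ?_, ?_⟩
    · rw [← cancel_mono (K.iCycles i)]
      simp [w]
    · rw [← cancel_mono (L.iCycles i)]
      simp [w]
  haveI : Epi (K.homologyπ i ≫ homologyMap θ i) := by
    rw [homologyπ_naturality]
    infer_instance
  exact epi_of_epi (K.homologyπ i) _

/-- **The step of descending induction, at the level of complexes.** -/
theorem exists_step {E F : CochainComplex A ℤ} (φ : E ⟶ F) (j k : ℤ) (hjk : j + 1 = k)
    (hE : ∀ i, i < k → IsZero (E.X i)) (hC : ∀ i, k ≤ i → IsZero ((mappingCone φ).homology i))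
    {P : A} (ψ : P ⟶ (mappingCone φ).cycles j) (hψ : Epi (ψ ≫ (mappingCone φ).homologyπ j)) :
    ∃ (g : (HomologicalComplex.single A (ComplexShape.up ℤ) k).obj P ⟶ E) (φ' : mappingCone g ⟶ F),
      (∀ i, i ≠ j → Nonempty ((mappingCone g).X i ≅ E.X i)) ∧ Nonempty ((mappingCone g).X j ≅ P) ∧
      (∀ i, j ≤ i → IsZero ((mappingCone φ').homology i)) ∧
      ((∀ i, i ≤ j → IsZero (F.X i) ∨ i = j) → Mono ψ → ∀ i, i < j → IsZero ((mappingCone φ').homology i)) := by
  subst hjk
  let S := (HomologicalComplex.single A (ComplexShape.up ℤ) (j + 1)).obj P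
  have hS : ∀ i, i ≠ j + 1 → IsZero (S.X i) := fun i hi => HomologicalComplex.isZero_single_obj_X _ _ _ _ hi
  let x : P ⟶ (mappingCone φ).X j := ψ ≫ (mappingCone φ).iCycles j
  have hx : x ≫ (mappingCone φ).d j (j + 1) = 0 := by simp [x]
  let a : P ⟶ E.X (j + 1) := x ≫ (mappingCone.fst φ).1.v j (j + 1) rfl
  let b : P ⟶ F.X j := x ≫ (mappingCone.snd φ).v j j (add_zero j)
  have ha : a ≫ E.d (j + 1) (j + 1 + 1) = 0 := by
    have h := congrArg (· ≫ (mappingCone.fst φ).1.v (j + 1) (j + 1 + 1) rfl) hx
    simp only [Category.assoc, mappingCone.d_fst_v φ j (j + 1) (j + 1 + 1) rfl rfl, zero_comp,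
      Preadditive.comp_neg, neg_eq_zero] at h
    simpa [a] using h
  have hb : a ≫ φ.f (j + 1) + b ≫ F.d j (j + 1) = 0 := by
    have h := congrArg (· ≫ (mappingCone.snd φ).v (j + 1) (j + 1) (add_zero _)) hx
    simp only [Category.assoc, mappingCone.d_snd_v φ j (j + 1) rfl, zero_comp, Preadditive.comp_add] at h
    simpa [a, b] using h
  let e := HomologicalComplex.singleObjXSelf (ComplexShape.up ℤ) (j + 1) P
  let g : S ⟶ E := HomologicalComplex.mkHomFromSingle a (fun i hi => by
    obtain rfl : j + 1 + 1 = i := hi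
    exact ha)
  have hg : g.f (j + 1) = e.hom ≫ a := HomologicalComplex.mkHomFromSingle_f _ _
  let α : Cochain S F (-1) := Cochain.single (K := S) (L := F) (p := j + 1) (q := j) (-(e.hom ≫ b)) (-1)
  have hα : δ (-1) 0 α = Cochain.ofHom (g ≫ φ) := by
    ext p
    by_cases hp : p = j + 1
    · subst hp
      rw [δ_v (-1) 0 (by omega) α (j + 1) (j + 1) (by omega) j (j + 1 + 1) (by omega) rfl,
        show α.v (j + 1) j (by omega) = -(e.hom ≫ b) from Cochain.single_v _ _ _,
        HomologicalComplex.single_obj_d, zero_comp, smul_zero, add_zero, Cochain.ofHom_v,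
        HomologicalComplex.comp_f, hg, Category.assoc, eq_neg_of_add_eq_zero_left hb]
      simp
    · exact (hS p hp).eq_of_src _ _
  let φ' : mappingCone g ⟶ F := mappingCone.desc g α φ hα
  let v : P ⟶ (mappingCone g).X j := e.inv ≫ (mappingCone.inl g).v (j + 1) j (by omega)
  have hvd : v ≫ (mappingCone g).d j (j + 1) = a ≫ (mappingCone.inr g).f (j + 1) := by
    simp only [v, Category.assoc, mappingCone.inl_v_d g (j + 1) j (j + 1 + 1) (by omega) (by omega)]
    rw [show S.d (j + 1) (j + 1 + 1) = 0 from HomologicalComplex.single_obj_d _ _ _ _ _, zero_comp, sub_zero, hg]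
    simp
  have hvφ : v ≫ φ'.f j = -b := by
    simp only [v, φ', Category.assoc, mappingCone.inl_v_desc_f]
    rw [show α.v (j + 1) j (by omega) = -(e.hom ≫ b) from Cochain.single_v _ _ _]
    simp
  -- the terms
  have hX : ∀ i, i ≠ j → IsIso ((mappingCone.inr g).f i) := fun i hi => by
    refine ⟨(mappingCone.snd g).v i i (add_zero i), by simp, ?_⟩
    rw [mappingCone.ext_from_iff g (i + 1) i rfl]
    exact ⟨(hS (i + 1) (by omega)).eq_of_src _ _, by simp⟩
  have hv : IsIso v := by
    refine ⟨(mappingCone.fst g).1.v j (j + 1) rfl ≫ e.hom, by simp [v], ?_⟩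
    rw [mappingCone.ext_from_iff g (j + 1) j rfl]
    exact ⟨by simp [v], (hE j (by omega)).eq_of_src _ _⟩
  refine ⟨g, φ', fun i hi => ⟨(@asIso _ _ _ _ _ (hX i hi)).symm⟩, ⟨(@asIso _ _ _ _ _ hv).symm⟩, ?_⟩
  -- comparison of the cones
  let θ : mappingCone φ ⟶ mappingCone φ' :=
    mappingCone.map φ φ' (mappingCone.inr g) (𝟙 F) (by simp [φ'])
  have hθinl : ∀ p q : ℤ, ∀ h : p + (-1) = q, (mappingCone.inl φ).v p q h ≫ θ.f q =
      (mappingCone.inr g).f p ≫ (mappingCone.inl φ').v p q h := fun p q h => by
    simp [θ, mappingCone.map]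
  have hθinr : ∀ p : ℤ, (mappingCone.inr φ).f p ≫ θ.f p = (mappingCone.inr φ').f p := fun p => by
    simp [θ, mappingCone.map]
  have hθ : ∀ i, j ≤ i → IsIso (θ.f i) := fun i hi => by
    haveI := hX (i + 1) (by omega)
    refine ⟨(mappingCone.fst φ').1.v i (i + 1) rfl ≫ inv ((mappingCone.inr g).f (i + 1)) ≫
      (mappingCone.inl φ).v (i + 1) i (by omega) + (mappingCone.snd φ').v i i (add_zero i) ≫ (mappingCone.inr φ).f i,
      ?_, ?_⟩
    · rw [mappingCone.ext_from_iff φ (i + 1) i rfl]
      refine ⟨?_, ?_⟩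
      · rw [← Category.assoc, hθinl]
        simp
      · rw [← Category.assoc, hθinr]
        simp
    · rw [mappingCone.ext_from_iff φ' (i + 1) i rfl]
      refine ⟨?_, ?_⟩
      · simp [hθinl]
      · simp [hθinr]
  let hh : P ⟶ (mappingCone φ').X (j - 1) := -(v ≫ (mappingCone.inl φ').v j (j - 1) (by omega))
  have hhd : hh ≫ (mappingCone φ').d (j - 1) j = x ≫ θ.f j := by
    have hxd : x = a ≫ (mappingCone.inl φ).v (j + 1) j (by omega) + b ≫ (mappingCone.inr φ).f j := by
      apply mappingCone.ext_to φ j (j + 1) rfl <;> simp [a, b]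
    refine Eq.trans ?_ (congrArg (· ≫ θ.f j) hxd.symm)
    simp only [Preadditive.add_comp, Category.assoc, hθinl, hθinr]
    simp only [hh, Preadditive.neg_comp, Category.assoc,
      mappingCone.inl_v_d φ' j (j - 1) (j + 1) (by omega) (by omega), Preadditive.comp_sub, reassoc_of% hvd,
      reassoc_of% hvφ, Preadditive.neg_comp]
    abel
  refine ⟨fun i hi => ?_, fun hF hm i hi => ?_⟩
  · haveI hep : Epi (homologyMap θ i) := by
      haveI := hθ (i + 1) (by omega)
      exact epi_homologyMap_of_isIso θ i (hθ i hi) inferInstance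
    have h0 : homologyMap θ i = 0 := by
      rcases eq_or_lt_of_le hi with rfl | h
      · haveI := hψ
        rw [← cancel_epi (ψ ≫ (mappingCone φ).homologyπ j), comp_zero, Category.assoc, homologyπ_naturality]
        have hz : ψ ≫ cyclesMap θ j = hh ≫ (mappingCone φ').toCycles (j - 1) j := by
          rw [← cancel_mono ((mappingCone φ').iCycles j)]
          simp [hhd, x]
        rw [← Category.assoc, hz]
        simp
      · exact (hC i (by omega)).eq_of_src _ _
    haveI := hep
    rw [IsZero.iff_id_eq_zero, ← cancel_epi (homologyMap θ i), h0]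
    simp
  · have hXC : ∀ q, q < j - 1 → IsZero ((mappingCone φ').X q) := fun q hq => by
      haveI := hX (q + 1) (by omega)
      exact ((biprod_isZero_iff _ _).2 ⟨(hE (q + 1) (by omega)).of_iso
        (asIso ((mappingCone.inr g).f (q + 1))).symm, (hF q (by omega)).resolve_right (by omega)⟩).of_iso
        (HomologicalComplex.homotopyCofiber.XIsoBiprod φ' q (q + 1) rfl)
    rcases lt_or_eq_of_le (show i ≤ j - 1 by omega) with h | rfl
    · exact ShortComplex.isZero_homology_of_isZero_X₂ _ (hXC i h)
    · haveI := hv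
      haveI hhi : IsIso hh := by
        refine ⟨-((mappingCone.fst φ').1.v (j - 1) j (by omega) ≫ inv v), by simp [hh], ?_⟩
        rw [mappingCone.ext_from_iff φ' j (j - 1) (by omega)]
        exact ⟨by simp [hh], ((hF (j - 1) (by omega)).resolve_right (by omega)).eq_of_src _ _⟩
      haveI := hm
      haveI : Mono (hh ≫ (mappingCone φ').d (j - 1) j) := by
        rw [hhd]
        haveI := hθ j le_rfl
        infer_instance
      haveI : Mono ((mappingCone φ').d (j - 1) j) := by
        rw [show (mappingCone φ').d (j - 1) j = inv hh ≫ (hh ≫ (mappingCone φ').d (j - 1) j) by simp]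
        infer_instance
      rw [← HomologicalComplex.exactAt_iff_isZero_homology,
        HomologicalComplex.exactAt_iff' _ (j - 1 - 1) (j - 1) j (by simp) (by simp)]
      exact (ShortComplex.exact_iff_mono _ ((hXC (j - 1 - 1) (by omega)).eq_of_src _ _)).2 ‹_›

end GrothLib.StrictRes20
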