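import Groth.Prelude.Def_PerfAux
import Groth.Agent.Lib.StrictRes20.Step
import Groth.Agent.Lib.KSix19.ProjPush.AmpleRes
import Groth.Agent.Lib.FTIdeals9.Colim
import Groth.Agent.Lib.RLpsi8.TopDegree
import Groth.Agent.Lib.OX.QCohCx
import Groth.Agent.Lib.OX.PCohQCoh

/-! # Strictly perfect resolutions, from the resolution property -/

set_option autoImplicit false
set_option backward.isDefEq.respectTransparency false
set_option linter.style.haveILetI false
set_option maxHeartbeats 1000000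
universe u

open CategoryTheory CategoryTheory.Limits CategoryTheory.Pretriangulated AlgebraicGeometry TopologicalSpace
attribute [local instance] HasDerivedCategory.standard

noncomputable section

namespace GrothLib.StrictRes20

variable {X : Scheme.{u}}

/-- A quasi-coherent module mapping onto one of finite type contains a submodule of finite type doing so. -/
theorem exists_ft_cover [CompactSpace X] [QuasiSeparatedSpace X] {Z H : X.Modules} [Z.IsQuasicoherent]
    [H.IsQuasicoherent] (hH : CohB1.IsFT H) (p : Z ⟶ H) [Epi p] :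
    ∃ Q : QCoh.SubData Z, QCoh.SubData.LocGen Q ⊤ ∧ Epi (Q.ι ≫ p) := by
  classical
  let c := X.affineCover.finiteSubcover
  let V : c.I₀ → X.Opens := fun k => (c.f k).opensRange
  have hV : ∀ k, IsAffineOpen (V k) := fun k => isAffineOpen_opensRange _
  let T := ShortComplex.mk (kernel.ι p) p (kernel.condition p)
  have hT : T.ShortExact :=
    { exact := ShortComplex.exact_of_f_is_kernel _ (kernelIsKernel p)
      mono_f := inferInstanceAs (Mono (kernel.ι p))
      epi_g := inferInstanceAs (Epi p) }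
  have hsurj : ∀ k, Function.Surjective (p.app (V k)) := fun k =>
    haveI : T.X₁.IsQuasicoherent := QCoh.isQuasicoherent_kernel p
    QCoh.app_surjective_of_isAffineOpen hT (hV k)
  have hfin : ∀ k, Module.Finite Γ(X, V k) Γ(H, V k) := fun k => QCoh.moduleFinite_of_isFiniteType H hH (hV k)
  choose G hG using fun k => (hfin k).fg_top
  choose s hs using fun k => hsurj k
  choose Q hQ hSQ using fun k => FTIdeals9.exists_locGen_qcqs (F := Z) (hV k)
    ((G k).finite_toSet.image (s k))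
  let R := FTIdeals9.sumData Q
  have hR : QCoh.SubData.LocGen R ⊤ := FTIdeals9.locGen_sumData Q hQ
  refine ⟨R, hR, Abelian.epi_of_cokernel_π_eq_zero _ ?_⟩
  refine RLpsi8.TopDegree.hom_eq_zero (cokernel.π (R.ι ≫ p)) V hV (fun x => ?_) fun k t => ?_
  · have : x ∈ (⨆ k, (c.f k).opensRange : X.Opens) := by rw [c.iSup_opensRange]; trivial
    exact Opens.mem_iSup.1 this
  · have ht : t ∈ Submodule.span Γ(X, V k) (G k : Set Γ(H, V k)) := (hG k).symm ▸ Submodule.mem_top
    induction ht using Submodule.span_induction with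
    | mem y hy =>
      have h1 : s k y ∈ R.sec (V k) := FTIdeals9.le_sumData Q k _ (hSQ k ⟨y, hy, rfl⟩)
      have h2 : (R.ι ≫ p).app (V k) (R.lift _ h1) = y := hs k y
      rw [← h2]
      exact congr($(cokernel.condition (R.ι ≫ p)).app (V k) (R.lift _ h1))
    | zero => exact map_zero _
    | add y z _ _ hy hz => rw [map_add, hy, hz, add_zero]
    | smul r y _ hy => rw [Scheme.Modules.Hom.app_smul, hy, smul_zero]

/-- Lifting covers by locally free modules, from the resolution property. -/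
theorem exists_locFree_cover [CompactSpace X] [QuasiSeparatedSpace X] (hX : PerfAux.HasResolutionProperty X)
    {Z H : X.Modules} [Z.IsQuasicoherent] [H.IsQuasicoherent] (hH : CohB1.IsFT H) (p : Z ⟶ H) [Epi p] :
    ∃ (P : X.Modules) (ψ : P ⟶ Z), FlatMod.IsFinLocFree P ∧ Epi (ψ ≫ p) := by
  obtain ⟨Q, hQ, hQp⟩ := exists_ft_cover hH p
  obtain ⟨P, π, hP, hπ⟩ := hX Q.obj hQ.isQuasicoherent hQ.isFiniteType
  refine ⟨P, π ≫ Q.ι, hP, ?_⟩
  rw [Category.assoc]
  haveI := hπ
  haveI := hQp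
  infer_instance

/-- Perfect objects on quasi-compact schemes have bounded amplitude. -/
theorem exists_amplitude [CompactSpace X] {K : DCoh.D X} (hK : DCoh.IsPerfect K) :
    ∃ m n : ℤ, ∀ m' n' : ℤ, m' ≤ m → n ≤ n' → KSix.HasPerfectAmplitudeIn m' n' K := by
  classical
  choose U j hj hx hs using OX.isPerfect_iff.1 hK
  choose E hE e using hs
  choose a b hab using fun x => (hE x).1
  haveI := hj
  obtain ⟨t, ht⟩ := isCompact_univ.elim_finite_subcover (fun x : X => Set.range (j x))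
    (fun x => (j x).isOpenEmbedding.isOpen_range) fun x _ => Set.mem_iUnion.2 ⟨x, hx x⟩
  refine ⟨-(∑ x ∈ t, |a x|), ∑ x ∈ t, |b x|, fun m' n' hm hn => ?_⟩
  refine KSix19.hasPerfectAmplitudeIn_iff.2 fun y => ?_
  obtain ⟨x, hxt, hy⟩ := Set.mem_iUnion₂.1 (ht (Set.mem_univ y))
  have h1 : |a x| ≤ ∑ z ∈ t, |a z| := Finset.single_le_sum (fun z _ => abs_nonneg (a z)) hxt
  have h2 : |b x| ≤ ∑ z ∈ t, |b z| := Finset.single_le_sum (fun z _ => abs_nonneg (b z)) hxt
  refine ⟨U x, j x, hj x, hy, E x, fun i hi => hab x i ?_, (hE x).2, e x⟩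
  have := neg_abs_le (a x)
  have := le_abs_self (b x)
  omega

section Main

variable [CompactSpace X] [QuasiSeparatedSpace X] (hX : PerfAux.HasResolutionProperty X)
  (F : CochainComplex X.Modules ℤ) (hFq : ∀ n : ℤ, Coh.IsQCoh (F.X n))
  (hFpc : ∀ m : ℤ, DCoh.IsPseudoCoherentD m (DCoh.toD X F))

/-- An approximation of `F` by locally free modules in degrees `[k, b]`, by a map of complexes. -/
def ChainStage (b k : ℤ) : Prop :=
  ∃ (E : CochainComplex X.Modules ℤ) (φ : E ⟶ F), DCoh.VanishesOutside E k b ∧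
    (∀ i, FlatMod.IsFinLocFree (E.X i)) ∧ ∀ i, k ≤ i → IsZero ((CochainComplex.mappingCone φ).homology i)

theorem chainStage_top (b : ℤ) (hb : ∀ i, b < i → IsZero (F.homology i)) : ChainStage F b (b + 1) := by
  obtain ⟨O, hO⟩ : ∃ O : CochainComplex X.Modules ℤ, IsZero O := ⟨_, HomologicalComplex.isZero_zero⟩
  have hz : ∀ i, IsZero (O.X i) := fun i => (HomologicalComplex.eval _ _ i).map_isZero hO
  refine ⟨O, 0, fun i _ => hz i, fun i => DCoh.isFinLocFree_of_isZero (hz i), fun i hi => ?_⟩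
  haveI : IsIso (Triangle.mor₂ (DerivedCategory.Q.mapTriangle.obj (CochainComplex.mappingCone.triangle (0 : O ⟶ F)))) :=
    (Triangle.isZero₁_iff_isIso₂ _ (DerivedCategory.mappingCone_triangle_distinguished (0 : O ⟶ F))).1
      (DerivedCategory.Q.map_isZero hO)
  exact (((hb i (by omega)).of_iso (OX.hdIso F i)).of_iso ((DerivedCategory.homologyFunctor _ i).mapIso
    (asIso (Triangle.mor₂ (DerivedCategory.Q.mapTriangle.obj
      (CochainComplex.mappingCone.triangle (0 : O ⟶ F)))))).symm).of_iso (OX.hdIso _ i).symm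

include hFq in
omit [CompactSpace X] [QuasiSeparatedSpace X] in
theorem isQCoh_cone {E : CochainComplex X.Modules ℤ} (φ : E ⟶ F) (hE : ∀ i, FlatMod.IsFinLocFree (E.X i))
    (i : ℤ) : Coh.IsQCoh ((CochainComplex.mappingCone φ).X i) := by
  haveI := Euler.isQuasicoherent_of_isFinLocFree (hE (i + 1))
  haveI : (F.X i).IsQuasicoherent := hFq i
  exact OX.isQCoh_of_iso (HomologicalComplex.homotopyCofiber.XIsoBiprod φ i (i + 1) rfl).symm
    (Cohom.isQuasicoherent_biprod _ _)

include hX hFq hFpc in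
theorem chainStage_step {b k : ℤ} (hkb : k ≤ b + 1) (h : ChainStage F b k) : ChainStage F b (k - 1) := by
  obtain ⟨E, φ, hE, hEfl, hC⟩ := h
  let C := CochainComplex.mappingCone φ
  have hCq := isQCoh_cone F hFq φ hEfl
  have hEp := KSix19.ProjPush.isPerfect_Q E ⟨⟨k, b, hE⟩, hEfl⟩
  have hCpc : DCoh.IsPseudoCoherentD (k - 1) (DCoh.toD X C) :=
    OX.isPseudoCoherentD_cone (DerivedCategory.mappingCone_triangle_distinguished φ)
      (OX.isPseudoCoherentD_of_isPerfect hEp _) (hFpc _)
  have hFT : CohB1.IsFT (DCoh.HD (DCoh.toD X C) (k - 1)) :=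
    OX.isFT_HD_top hCpc fun i hi => (hC i (by omega)).of_iso (OX.hdIso C i)
  haveI : (C.cycles (k - 1)).IsQuasicoherent := OX.isQCoh_cycles C hCq (k - 1)
  haveI : (DCoh.HD (DCoh.toD X C) (k - 1)).IsQuasicoherent := OX.isQCohD_Q C hCq (k - 1)
  obtain ⟨P, ψ, hP, hψ'⟩ := exists_locFree_cover hX hFT (C.homologyπ (k - 1) ≫ (OX.hdIso C (k - 1)).inv)
  have hψ : Epi (ψ ≫ C.homologyπ (k - 1)) := by
    haveI := hψ'
    rw [show ψ ≫ C.homologyπ (k - 1) = (ψ ≫ C.homologyπ (k - 1) ≫ (OX.hdIso C (k - 1)).inv) ≫ (OX.hdIso C (k - 1)).hom by simp]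
    infer_instance
  obtain ⟨g, φ', hXi, ⟨eP⟩, hC', -⟩ :=
    exists_step φ (k - 1) k (by omega) (fun i hi => hE i (Or.inl hi)) hC ψ hψ
  refine ⟨_, φ', fun i hi => ?_, fun i => ?_, hC'⟩
  · obtain ⟨e⟩ := hXi i (by omega)
    exact (hE i (by omega)).of_iso e
  · by_cases hi : i = k - 1
    · subst hi; exact DCoh.isFinLocFree_of_iso eP.symm hP
    · obtain ⟨e⟩ := hXi i hi
      exact DCoh.isFinLocFree_of_iso e.symm (hEfl i)

include hX hFq hFpc in
theorem exists_chainStage (b : ℤ) (hb : ∀ i, b < i → IsZero (F.homology i)) :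
    ∀ r : ℕ, ChainStage F b (b + 1 - r)
  | 0 => by simpa using chainStage_top F b hb
  | r + 1 => by
    have := chainStage_step hX F hFq hFpc (show b + 1 - (r : ℤ) ≤ b + 1 by omega) (exists_chainStage b hb r)
    rwa [show b + 1 - ((r + 1 : ℕ) : ℤ) = b + 1 - (r : ℤ) - 1 by push_cast; ring]

end Main

/-- **Strictly perfect resolutions of bounded below quasi-coherent complexes with perfect class.** -/
theorem exists_strictlyPerfect_quasiIso [CompactSpace X] [QuasiSeparatedSpace X]
    (hX : PerfAux.HasResolutionProperty X) (F : CochainComplex X.Modules ℤ)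
    (hFb : ∃ a : ℤ, ∀ n : ℤ, n < a → IsZero (F.X n)) (hFq : ∀ n : ℤ, Coh.IsQCoh (F.X n))
    (hF : DCoh.IsPerfect (DCoh.toD X F)) :
    ∃ (E : CochainComplex X.Modules ℤ) (φ : E ⟶ F), DCoh.IsStrictlyPerfect E ∧ QuasiIso φ := by
  obtain ⟨a, ha⟩ := hFb
  obtain ⟨m₀, n₀, hamp⟩ := exists_amplitude hF
  let m := min m₀ (min (a - 1) n₀)
  have hma : m ≤ a - 1 := (min_le_right _ _).trans (min_le_left _ _)
  have hmn : m ≤ n₀ := (min_le_right _ _).trans (min_le_right _ _)
  have hA := hamp m n₀ (min_le_left _ _) le_rfl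
  haveI hLE : (DCoh.toD X F).IsLE n₀ :=
    KSix19.ProjPush.isLE_of_flatAmplitude (KSix19.flatAmplitude_of_perfectAmplitude hA)
  have hb : ∀ i, n₀ < i → IsZero (F.homology i) := fun i hi =>
    (DerivedCategory.isZero_of_isLE (DCoh.toD X F) n₀ i hi).of_iso (OX.hdIso F i).symm
  obtain ⟨E, φ, hE, hEfl, hC⟩ := exists_chainStage hX F hFq
    (OX.isPseudoCoherentD_of_isPerfect hF) n₀ hb (n₀ - m).toNat
  rw [show n₀ + 1 - ((n₀ - m).toNat : ℤ) = m + 1 by omega] at hE hC
  let C := CochainComplex.mappingCone φ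
  have hM : FlatMod.IsFinLocFree (DCoh.HD (DCoh.toD X C) m) :=
    KSix19.ProjPush.isFinLocFree_bottom E m n₀ hE hEfl hA (DerivedCategory.mappingCone_triangle_distinguished φ)
      fun i hi => (hC i hi).of_iso (OX.hdIso C i)
  have hC0 : ∀ i, i < m → IsZero (C.X i) := fun i hi =>
    ((biprod_isZero_iff _ _).2 ⟨hE (i + 1) (Or.inl (by omega)), ha i (by omega)⟩).of_iso
      (HomologicalComplex.homotopyCofiber.XIsoBiprod φ i (i + 1) rfl)
  haveI : IsIso (C.homologyπ m) :=
    C.isIso_homologyπ (m - 1) m (by simp) ((hC0 (m - 1) (by omega)).eq_of_src _ _)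
  obtain ⟨g, φ', hXi, ⟨eP⟩, hC', hlow⟩ := exists_step φ m (m + 1) rfl (fun i hi => hE i (Or.inl hi)) hC
    (inv (C.homologyπ m)) (by rw [IsIso.inv_hom_id]; infer_instance)
  refine ⟨_, φ', ⟨⟨m, n₀, fun i hi => ?_⟩, fun i => ?_⟩, ?_⟩
  · obtain ⟨e⟩ := hXi i (by omega)
    exact (hE i (by omega)).of_iso e
  · by_cases hi : i = m
    · rw [hi]
      exact DCoh.isFinLocFree_of_iso eP.symm (DCoh.isFinLocFree_of_iso (OX.hdIso C m) hM)
    · obtain ⟨e⟩ := hXi i hi
      exact DCoh.isFinLocFree_of_iso e.symm (hEfl i)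
  · rw [DerCat.quasiIso_iff_acyclic_mappingCone]
    intro i
    rw [HomologicalComplex.exactAt_iff_isZero_homology]
    rcases lt_or_ge i m with h | h
    · exact hlow (fun q _ => Or.inl (ha q (by omega))) inferInstance i h
    · exact hC' i h

end GrothLib.StrictRes20
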