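import Groth.Prelude.Def_PerfAux
import Groth.Agent.Lib.RLpsi8.IdealTwist
import Groth.Agent.Lib.FinCov.Frame
import Groth.Agent.Lib.QCoh.Extension
import Groth.Agent.Lib.Euler.Coh

/-! # The resolution property gives affine diagonal -/

set_option autoImplicit false
set_option backward.isDefEq.respectTransparency false
set_option linter.style.haveILetI false
set_option maxHeartbeats 1000000
universe u

open CategoryTheory CategoryTheory.Limits AlgebraicGeometry TopologicalSpace Opposite

noncomputable section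

namespace GrothLib.StrictRes20

variable {X : Scheme.{u}}

/-- An open whose trivialising locally free cover has a unit section meets small affines in affines. -/
theorem isAffineOpen_inf_of_section {E : X.Modules} (π : E ⟶ Coh.structureModule X) (U V : X.Opens)
    (t : Γ(E, U)) (ht : π.app U t = (1 : Γ(X, U)))
    (hsupp : ∀ (O : X.Opens) (z : Γ(E, O)), X.basicOpen (U := O) (π.app O z : Γ(X, O)) ≤ U)
    {U₀ : X.Opens} {n : ℕ} {e : Fin n → Γ(E, U₀)} (he : FinCov.IsFrame E U₀ e) (hVU : V ≤ U₀)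
    (hV : IsAffineOpen V) : IsAffineOpen (U ⊓ V) := by
  let W : X.Opens := U ⊓ V
  let eV : Fin n → Γ(E, V) := fun i => E.presheaf.map (homOfLE hVU).op (e i)
  let f : Fin n → Γ(X, V) := fun i => π.app V (eV i)
  let fW : Fin n → Γ(X, W) := fun i => X.presheaf.map (homOfLE (inf_le_right : W ≤ V)).op (f i)
  refine isAffineOpen_of_isAffineOpen_basicOpen W (Set.range fW) ?_ ?_
  · obtain ⟨c, hc⟩ := (he W (inf_le_right.trans hVU)).2 (E.presheaf.map (homOfLE (inf_le_left : W ≤ U)).op t)
    rw [Ideal.eq_top_iff_one]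
    have h1 : π.app W (E.presheaf.map (homOfLE (inf_le_left : W ≤ U)).op t) = (1 : Γ(X, W)) := by
      rw [← QCoh.map_app, ht]
      exact map_one (X.presheaf.map (homOfLE (inf_le_left : W ≤ U)).op).hom
    have h2 : ∀ i, π.app W (E.presheaf.map (homOfLE (inf_le_right.trans hVU : W ≤ U₀)).op (e i)) = fW i :=
      fun i => by
        simp only [fW, f, eV]
        rw [show E.presheaf.map (homOfLE (inf_le_right.trans hVU : W ≤ U₀)).op (e i) =
          E.presheaf.map (homOfLE (inf_le_right : W ≤ V)).op (E.presheaf.map (homOfLE hVU).op (e i)) by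
            rw [← ConcreteCategory.comp_apply, ← Functor.map_comp]; rfl, ← QCoh.map_app]
        rfl
    rw [← h1, ← hc, map_sum]
    refine Ideal.sum_mem _ fun i _ => ?_
    rw [Scheme.Modules.Hom.app_smul, h2]
    exact Ideal.mul_mem_left _ _ (Ideal.subset_span ⟨i, rfl⟩)
  · rintro _ ⟨i, rfl⟩
    have h : X.basicOpen (fW i) = X.basicOpen (f i) := by
      simp only [fW]
      rw [X.basicOpen_res]
      exact inf_eq_right.2 (le_inf (hsupp V (eV i)) (X.basicOpen_le _))
    rw [h]
    exact hV.basicOpen _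

/-- **The resolution property gives affine diagonal.** -/
theorem isAffineOpen_inf [CompactSpace X] [QuasiSeparatedSpace X] (hX : PerfAux.HasResolutionProperty X)
    {U V : X.Opens} (hU : IsAffineOpen U) (hV : IsAffineOpen V) : IsAffineOpen (U ⊓ V) := by
  let I := Scheme.IdealSheafData.vanishingIdeal (X := X) ⟨(U : Set X)ᶜ, U.2.isClosed_compl⟩
  have hsupp : (I.support : Set X) = (U : Set X)ᶜ := by simp [I]
  have htop : I.ideal ⟨U, hU⟩ = ⊤ := by
    rw [← Ideal.span_eq (I.ideal ⟨U, hU⟩), ← hU.iSup_basicOpen_eq_self_iff]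
    refine le_antisymm (iSup_le fun f => X.basicOpen_le _) fun x hx => ?_
    have h1 : x ∉ X.zeroLocus (U := U) (I.ideal ⟨U, hU⟩ : Set Γ(X, U)) := fun h =>
      (hsupp.le ((I.coe_support_inter ⟨U, hU⟩).ge ⟨h, hx⟩).1) hx
    rw [Scheme.mem_zeroLocus_iff] at h1
    push Not at h1
    obtain ⟨f, hf, hxf⟩ := h1
    exact Opens.mem_iSup.2 ⟨⟨f, hf⟩, hxf⟩
  obtain ⟨k, hk⟩ := IdealModSec.exists_val_eq I ⟨U, hU⟩
    (show (1 : Γ(X, U)) ∈ I.ideal ⟨U, hU⟩ by rw [htop]; trivial)
  haveI : (ClSub.idealMod I).IsQuasicoherent := OmegaAff.isQuasicoherent_idealMod I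
  obtain ⟨Q, hQ, hkQ⟩ := RLpsi8.exists_locGen_mem (F := ClSub.idealMod I) hU {k} (Set.finite_singleton k)
  obtain ⟨E, p, hE, hp⟩ := hX Q.obj hQ.isQuasicoherent hQ.isFiniteType
  haveI := hp
  haveI : E.IsQuasicoherent := Euler.isQuasicoherent_of_isFinLocFree hE
  haveI : Q.obj.IsQuasicoherent := hQ.isQuasicoherent
  let T := ShortComplex.mk (kernel.ι p) p (kernel.condition p)
  have hT : T.ShortExact :=
    { exact := ShortComplex.exact_of_f_is_kernel _ (kernelIsKernel p)
      mono_f := inferInstanceAs (Mono (kernel.ι p))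
      epi_g := inferInstanceAs (Epi p) }
  haveI : T.X₁.IsQuasicoherent := QCoh.isQuasicoherent_kernel p
  obtain ⟨t, ht⟩ := QCoh.app_surjective_of_isAffineOpen hT hU (Q.lift k (hkQ rfl))
  let π : E ⟶ Coh.structureModule X := p ≫ Q.ι ≫ ClSub.idealModι I
  have htπ : π.app U t = (1 : Γ(X, U)) := by
    show (ClSub.idealModι I).app U (Q.ι.app U (p.app U t)) = _
    rw [show p.app U t = Q.lift k (hkQ rfl) from ht, Q.ι_app_lift]
    exact hk
  have hsuppπ : ∀ (O : X.Opens) (z : Γ(E, O)), X.basicOpen (U := O) (π.app O z : Γ(X, O)) ≤ U := by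
    intro O z y hy
    by_contra hyU
    exact RLpsi8.not_mem_basicOpen_val I (by rw [hsupp]; exact hyU) (Q.ι.app O (p.app O z)) hy
  haveI : IsAffineHom U.ι := isAffineHom_of_forall_exists_isAffineOpen U.ι fun x => by
    obtain ⟨U₀, n, e, hx, he⟩ := FinCov.exists_frame_nhd hE x
    obtain ⟨V', hV', hxV', hle⟩ := exists_isAffineOpen_mem_and_subset (x := x) (U := U₀) hx
    refine ⟨V', hxV', hV', (Scheme.Hom.isAffineOpen_iff_of_isOpenImmersion U.ι).1 ?_⟩
    rw [Scheme.Hom.image_preimage_eq_opensRange_inf, Scheme.Opens.opensRange_ι]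
    exact isAffineOpen_inf_of_section π U V' t htπ hsuppπ he hle hV'
  have h2 := (hV.preimage U.ι).image_of_isOpenImmersion U.ι
  rwa [Scheme.Hom.image_preimage_eq_opensRange_inf, Scheme.Opens.opensRange_ι] at h2

end GrothLib.StrictRes20
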