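import Groth.Agent.S1048
import Groth.Agent.Lib.StrictRes20.Basic
import Groth.Agent.Lib.StrictRes20.AffDiag
import Groth.Agent.Lib.QCohCat20.Category
import Groth.Agent.Lib.OX.PerfectEnvelope

/-! # Perfect objects are strictly perfect, from the resolution property -/

set_option autoImplicit false
set_option backward.isDefEq.respectTransparency false
set_option linter.style.haveILetI false
set_option maxHeartbeats 1000000
universe u

open CategoryTheory CategoryTheory.Limits CategoryTheory.Pretriangulated AlgebraicGeometry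
attribute [local instance] HasDerivedCategory.standard

noncomputable section

namespace GrothLib.StrictRes20

variable {X : Scheme.{u}}

/-- Bounded below quasi-coherent representatives, for affine diagonal. -/
theorem exists_qcoh_rep_bddBelow [CompactSpace X]
    (hdiag : ∀ U V : X.Opens, IsAffineOpen U → IsAffineOpen V → IsAffineOpen (U ⊓ V))
    (K : DCoh.D X) (hK : DCoh.IsQCohD K) (a : ℤ) [K.IsGE a] :
    ∃ F : CochainComplex X.Modules ℤ, (∀ n, n < a → IsZero (F.X n)) ∧ (∀ n, Coh.IsQCoh (F.X n)) ∧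
      Nonempty (DCoh.toD X F ≅ K) := by
  haveI : ObjectProperty.ContainsZero (fun M : X.Modules => Coh.IsQCoh M) :=
    inferInstanceAs (QCohCat.isQCoh X).ContainsZero
  haveI : ObjectProperty.IsClosedUnderKernels (fun M : X.Modules => Coh.IsQCoh M) :=
    inferInstanceAs (QCohCat.isQCoh X).IsClosedUnderKernels
  haveI : ObjectProperty.IsClosedUnderCokernels (fun M : X.Modules => Coh.IsQCoh M) :=
    inferInstanceAs (QCohCat.isQCoh X).IsClosedUnderCokernels
  haveI : ObjectProperty.IsClosedUnderFiniteProducts (fun M : X.Modules => Coh.IsQCoh M) :=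
    inferInstanceAs (QCohCat.isQCoh X).IsClosedUnderFiniteProducts
  haveI : PreservesFiniteLimits (ObjectProperty.ι (fun M : X.Modules => Coh.IsQCoh M)) :=
    QCohCat20.preservesFiniteLimits_ι (X := X)
  haveI : PreservesFiniteColimits (ObjectProperty.ι (fun M : X.Modules => Coh.IsQCoh M)) :=
    haveI : ∀ {A B : QCohCat.QCoh X} (f : A ⟶ B), PreservesColimit (parallelPair f 0) (QCohCat.isQCoh X).ι :=
      fun {A B} f => (QCohCat.isQCoh X).preservesCokernels_ι f
    Functor.preservesFiniteColimits_of_preservesCokernels (QCohCat.isQCoh X).ι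
  obtain ⟨M, ⟨e⟩⟩ := ((Groth.Agent.S1048.result X hdiag).2.2 K).1 hK
  let ι := ObjectProperty.ι (fun M : X.Modules => Coh.IsQCoh M)
  let C := DerivedCategory.Q.objPreimage M
  let W : CochainComplex X.Modules ℤ := (ι.mapHomologicalComplex (ComplexShape.up ℤ)).obj C
  let eW : DCoh.toD X W ≅ K := (ι.mapDerivedCategoryFactors.app C).symm ≪≫
    ι.mapDerivedCategory.mapIso (DerivedCategory.Q.objObjPreimageIso M) ≪≫ e
  haveI : (DCoh.toD X W).IsGE a := DerivedCategory.TStructure.t.isGE_of_iso eW.symm a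
  haveI : W.IsGE a := (W.isGE_iff a).2 fun i hi => (HomologicalComplex.exactAt_iff_isZero_homology _ _).2
    ((DerivedCategory.isZero_of_isGE (DCoh.toD X W) a i hi).of_iso (OX.hdIso W i).symm)
  haveI : IsIso (DerivedCategory.Q.map (W.πTruncGE a)) :=
    (DerivedCategory.isIso_Q_map_iff_quasiIso _ _).2 inferInstance
  have hq : ∀ n, Coh.IsQCoh (W.X n) := fun n => (C.X n).property
  refine ⟨W.truncGE a, fun n hn => CochainComplex.isZero_of_isStrictlyGE _ a n hn, fun n => ?_,
    ⟨(asIso (DerivedCategory.Q.map (W.πTruncGE a))).symm ≪≫ eW⟩⟩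
  rcases lt_trichotomy n a with hn | hn | hn
  · exact OX.isQCoh_of_isZero (CochainComplex.isZero_of_isStrictlyGE _ a n hn)
  · subst hn
    haveI : (W.X (n - 1)).IsQuasicoherent := hq (n - 1)
    haveI : (W.X n).IsQuasicoherent := hq n
    exact OX.isQCoh_of_iso ((IsColimit.coconePointUniqueUpToIso (cokernelIsCokernel (W.d (n - 1) n))
      (W.opcyclesIsCokernel (n - 1) n (by simp))) ≪≫ (W.truncGEXIsoOpcycles n).symm) (QCoh.isQuasicoherent_cokernel _)
  · exact OX.isQCoh_of_iso (W.truncGEXIso a n hn).symm (hq n)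

/-- **Perfect objects are strictly perfect.** -/
theorem exists_strictlyPerfect_iso [CompactSpace X] [QuasiSeparatedSpace X]
    (hX : PerfAux.HasResolutionProperty X) {K : DCoh.D X} (hK : DCoh.IsPerfect K) :
    ∃ E : CochainComplex X.Modules ℤ, DCoh.IsStrictlyPerfect E ∧ Nonempty (DCoh.toD X E ≅ K) := by
  obtain ⟨m, n, hamp⟩ := exists_amplitude hK
  have hA := hamp m (max m n) le_rfl (le_max_right _ _)
  haveI : K.IsGE m := KSix19.ProjPush.isGE_of_flatAmplitude (KSix19.flatAmplitude_of_perfectAmplitude hA)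
  obtain ⟨F, hF0, hFq, ⟨e⟩⟩ := exists_qcoh_rep_bddBelow (fun U V hU hV => isAffineOpen_inf hX hU hV) K
    (OX.isQCohD_of_isPerfect hK) m
  obtain ⟨E, φ, hE, hφ⟩ := exists_strictlyPerfect_quasiIso hX F ⟨m, hF0⟩ hFq (OX.isPerfect_of_iso hK e.symm)
  haveI : IsIso (DerivedCategory.Q.map φ) := (DerivedCategory.isIso_Q_map_iff_quasiIso _ _).2 hφ
  exact ⟨E, hE, ⟨asIso (DerivedCategory.Q.map φ) ≪≫ e⟩⟩

end GrothLib.StrictRes20
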