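import Groth.Agent.Lib.StrictRes20.Morph
import Mathlib.Algebra.Homology.Localization
import Mathlib.CategoryTheory.Localization.Predicate

/-! # The derived category of perfect objects as a localization of strictly perfect complexes -/

set_option autoImplicit false
set_option backward.isDefEq.respectTransparency false
set_option linter.style.haveILetI false
set_option maxHeartbeats 1000000
universe u

open CategoryTheory CategoryTheory.Limits AlgebraicGeometry
attribute [local instance] HasDerivedCategory.standard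

noncomputable section

namespace GrothLib.StrictRes20

variable {X : Scheme.{u}}

variable (X) in
/-- Strictly perfect complexes. -/
abbrev SP : Type (u + 1) :=
  ObjectProperty.FullSubcategory (fun E : CochainComplex X.Modules ℤ => DCoh.IsStrictlyPerfect E)

variable (X) in
/-- Quasi-isomorphisms of strictly perfect complexes. -/
abbrev spQis : MorphismProperty (SP X) :=
  (HomologicalComplex.quasiIso X.Modules (ComplexShape.up ℤ)).inverseImage
    (ObjectProperty.ι (fun E : CochainComplex X.Modules ℤ => DCoh.IsStrictlyPerfect E))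

theorem strictlyPerfect_cylinder {E : CochainComplex X.Modules ℤ} (h : DCoh.IsStrictlyPerfect E) :
    DCoh.IsStrictlyPerfect E.cylinder := by
  obtain ⟨⟨a, b, hab⟩, hfl⟩ := h
  have e : ∀ i, E.cylinder.X i ≅ E.X (i + 1) ⊞ (E.X i ⊞ E.X i) := fun i =>
    HomologicalComplex.homotopyCofiber.XIsoBiprod (biprod.lift (𝟙 E) (-𝟙 E)) i (i + 1) rfl ≪≫
      biprod.mapIso (Iso.refl _) (HomologicalComplex.biprodXIso E E i)
  refine ⟨⟨a - 1, b, fun i hi => ?_⟩, fun i => ?_⟩
  · exact ((biprod_isZero_iff _ _).2 ⟨hab (i + 1) (by omega),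
      (biprod_isZero_iff _ _).2 ⟨hab i (by omega), hab i (by omega)⟩⟩).of_iso (e i)
  · exact DCoh.isFinLocFree_of_iso (e i).symm
      (DCoh.isFinLocFree_biprod (hfl _) (DCoh.isFinLocFree_biprod (hfl _) (hfl _)))

/-- Homotopic maps agree in the localization. -/
theorem Q_map_eq_of_homotopy {E F : SP X} (f g : E ⟶ F) (h : Homotopy f.hom g.hom) :
    (spQis X).Q.map f = (spQis X).Q.map g := by
  let C : SP X := ⟨E.obj.cylinder, strictlyPerfect_cylinder E.property⟩
  let i₀ : E ⟶ C := ObjectProperty.homMk (HomologicalComplex.cylinder.ι₀ E.obj)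
  let i₁ : E ⟶ C := ObjectProperty.homMk (HomologicalComplex.cylinder.ι₁ E.obj)
  let p : C ⟶ E := ObjectProperty.homMk (HomologicalComplex.cylinder.π E.obj)
  let d : C ⟶ F := ObjectProperty.homMk (HomologicalComplex.cylinder.desc f.hom g.hom h)
  have hp : spQis X p :=
    homotopyEquivalences_le_quasiIso _ _ _
      ⟨HomologicalComplex.cylinder.homotopyEquiv E.obj (fun j => ⟨j - 1, by simp⟩), rfl⟩
  haveI : IsIso ((spQis X).Q.map p) := Localization.inverts (spQis X).Q (spQis X) p hp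
  have h0 : i₀ ≫ p = 𝟙 E := by ext : 1; exact HomologicalComplex.cylinder.ι₀_π _
  have h1 : i₁ ≫ p = 𝟙 E := by ext : 1; exact HomologicalComplex.cylinder.ι₁_π _
  have hf : i₀ ≫ d = f := by ext : 1; exact HomologicalComplex.cylinder.ι₀_desc _ _ _
  have hg : i₁ ≫ d = g := by ext : 1; exact HomologicalComplex.cylinder.ι₁_desc _ _ _
  have h01 : (spQis X).Q.map i₀ = (spQis X).Q.map i₁ := by
    rw [← cancel_mono ((spQis X).Q.map p), ← Functor.map_comp, ← Functor.map_comp, h0, h1]
  rw [← hf, ← hg, Functor.map_comp, Functor.map_comp, h01]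

theorem quasiIso_of_spQis {E F : SP X} (g : E ⟶ F) (hg : spQis X g) : IsIso (DerivedCategory.Q.map g.hom) :=
  (DerivedCategory.isIso_Q_map_iff_quasiIso _ _).2 hg

variable [CompactSpace X] [QuasiSeparatedSpace X] (hX : PerfAux.HasResolutionProperty X)
include hX

theorem exists_roof' {E F : SP X} (α : DCoh.toD X E.obj ⟶ DCoh.toD X F.obj) :
    ∃ (G : SP X) (g : G ⟶ E) (h : G ⟶ F), spQis X g ∧
      DerivedCategory.Q.map g.hom ≫ α = DerivedCategory.Q.map h.hom := by
  obtain ⟨G, g, h, hG, hg, e⟩ := exists_roof hX E.property F.property α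
  exact ⟨⟨G, hG⟩, ObjectProperty.homMk g, ObjectProperty.homMk h, hg, e⟩

theorem exists_loc_eq {E F : SP X} (f g : E ⟶ F)
    (hfg : DerivedCategory.Q.map f.hom = DerivedCategory.Q.map g.hom) :
    ∃ (G : SP X) (γ : G ⟶ E), spQis X γ ∧ (spQis X).Q.map (γ ≫ f) = (spQis X).Q.map (γ ≫ g) := by
  obtain ⟨G, γ, hG, hγ, ⟨h⟩⟩ := exists_homotopy hX E.property F.property f.hom g.hom hfg
  let G' : SP X := ⟨G, hG⟩
  let γ' : G' ⟶ E := ObjectProperty.homMk γ
  exact ⟨G', γ', hγ, Q_map_eq_of_homotopy (γ' ≫ f) (γ' ≫ g) h⟩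

omit [CompactSpace X] [QuasiSeparatedSpace X] hX in
theorem spQis_comp {E F G : SP X} {f : E ⟶ F} {g : F ⟶ G} (hf : spQis X f) (hg : spQis X g) :
    spQis X (f ≫ g) := by
  haveI : QuasiIso f.hom := hf
  haveI : QuasiIso g.hom := hg
  exact (quasiIso_comp f.hom g.hom : QuasiIso (f.hom ≫ g.hom))

/-- Every morphism of the localization is a right fraction. -/
theorem exists_fraction {E F : SP X} (f : (spQis X).Q.obj E ⟶ (spQis X).Q.obj F) :
    ∃ (G : SP X) (g : G ⟶ E) (h : G ⟶ F), spQis X g ∧ (spQis X).Q.map g ≫ f = (spQis X).Q.map h := by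
  let e := Localization.Construction.objEquiv (spQis X)
  let P : MorphismProperty (spQis X).Localization := fun A B f =>
    ∃ (G : SP X) (g : G ⟶ e.symm A) (h : G ⟶ e.symm B), spQis X g ∧
      ((spQis X).Q.map g : (spQis X).Q.obj G ⟶ A) ≫ f = ((spQis X).Q.map h : (spQis X).Q.obj G ⟶ B)
  haveI : P.IsStableUnderComposition := ⟨by
    rintro A B C f f' ⟨G, g, h, hg, hf⟩ ⟨G', g', h', hg', hf'⟩
    haveI := quasiIso_of_spQis g' hg'
    obtain ⟨G'', g'', h'', hg'', e''⟩ :=
      exists_roof' hX (E := G) (F := G') (DerivedCategory.Q.map h.hom ≫ inv (DerivedCategory.Q.map g'.hom))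
    obtain ⟨G₃, γ, hγ, hloc⟩ := exists_loc_eq hX (g'' ≫ h) (h'' ≫ g') (by
      show DerivedCategory.Q.map (g''.hom ≫ h.hom) = DerivedCategory.Q.map (h''.hom ≫ g'.hom)
      rw [Functor.map_comp, Functor.map_comp, ← e'']
      simp)
    refine ⟨G₃, γ ≫ g'' ≫ g, γ ≫ h'' ≫ h', spQis_comp hγ (spQis_comp hg'' hg), ?_⟩
    simp only [Functor.map_comp, Category.assoc] at hloc ⊢
    rw [reassoc_of% hf, reassoc_of% hloc]
    exact congrArg (fun t => (spQis X).Q.map γ ≫ (spQis X).Q.map h'' ≫ t) hf'⟩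
  have hP : P = ⊤ := Localization.Construction.morphismProperty_eq_top P
    (fun A B k => ⟨A, 𝟙 A, k, (inferInstanceAs (QuasiIso (𝟙 A.obj))),
      ((spQis X).Q.map_comp (𝟙 A) k).symm.trans (congrArg (spQis X).Q.map (Category.id_comp k))⟩)
    (fun A B w hw => ⟨A, w, 𝟙 A, hw,
      (Localization.Construction.wIso w hw).hom_inv_id.trans ((spQis X).Q.map_id A).symm⟩)
  exact (hP ▸ (MorphismProperty.top_apply f) : P f)

/-- **Perfect objects are the localization of strictly perfect complexes.** -/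
theorem isLocalization (h : ∀ E : SP X, DCoh.IsPerfect
      ((ObjectProperty.ι (fun E : CochainComplex X.Modules ℤ => DCoh.IsStrictlyPerfect E) ⋙ DerivedCategory.Q).obj E)) :
    (ObjectProperty.lift (fun K : DCoh.D X => DCoh.IsPerfect K)
      (ObjectProperty.ι (fun E : CochainComplex X.Modules ℤ => DCoh.IsStrictlyPerfect E) ⋙ DerivedCategory.Q)
      h).IsLocalization (spQis X) := by
  let ιP := ObjectProperty.ι (fun K : DCoh.D X => DCoh.IsPerfect K)
  let L := ObjectProperty.lift (fun K : DCoh.D X => DCoh.IsPerfect K)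
    (ObjectProperty.ι (fun E : CochainComplex X.Modules ℤ => DCoh.IsStrictlyPerfect E) ⋙ DerivedCategory.Q) h
  have hinv : (spQis X).IsInvertedBy L := fun E F g hg => by
    haveI : IsIso (ιP.map (L.map g)) := quasiIso_of_spQis g hg
    exact isIso_of_fully_faithful ιP (L.map g)
  let Φ := Localization.Construction.lift L hinv
  have hΦ : ∀ {E F : SP X} (k : E ⟶ F), (Φ.map ((spQis X).Q.map k)).hom = DerivedCategory.Q.map k.hom :=
    fun {E F} k => by
      have := Functor.congr_hom (Localization.Construction.fac L hinv) k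
      simp only [Functor.comp_map] at this
      rw [this]
      simp [L]
  haveI : Φ.Full := ⟨fun {A B} φ => by
    obtain ⟨E, rfl⟩ := (Localization.Construction.objEquiv (spQis X)).surjective A
    obtain ⟨F, rfl⟩ := (Localization.Construction.objEquiv (spQis X)).surjective B
    obtain ⟨G, g, k, hg, e⟩ := exists_roof' hX (E := E) (F := F) φ.hom
    haveI : IsIso ((spQis X).Q.map g) := Localization.inverts (spQis X).Q (spQis X) g hg
    refine ⟨inv ((spQis X).Q.map g) ≫ (spQis X).Q.map k, ?_⟩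
    haveI : IsIso (Φ.map ((spQis X).Q.map g)) := Functor.map_isIso Φ _
    rw [← cancel_epi (Φ.map ((spQis X).Q.map g)), ← Functor.map_comp, IsIso.hom_inv_id_assoc]
    ext : 1
    exact (hΦ k).trans (e.symm.trans (congrArg (· ≫ φ.hom) (hΦ g).symm))⟩
  haveI : Φ.Faithful := ⟨fun {A B} f₁ f₂ hf => by
    obtain ⟨E, rfl⟩ := (Localization.Construction.objEquiv (spQis X)).surjective A
    obtain ⟨F, rfl⟩ := (Localization.Construction.objEquiv (spQis X)).surjective B
    obtain ⟨G₁, g₁, h₁, hg₁, e₁⟩ := exists_fraction hX (E := E) (F := F) f₁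
    obtain ⟨G₂, g₂, h₂, hg₂, e₂⟩ := exists_fraction hX (E := E) (F := F) f₂
    haveI := quasiIso_of_spQis g₂ hg₂
    obtain ⟨G₃, a, b, ha, hab⟩ :=
      exists_roof' hX (E := G₁) (F := G₂) (DerivedCategory.Q.map g₁.hom ≫ inv (DerivedCategory.Q.map g₂.hom))
    obtain ⟨G₄, γ, hγ, hloc⟩ := exists_loc_eq hX (a ≫ g₁) (b ≫ g₂) (by
      show DerivedCategory.Q.map (a.hom ≫ g₁.hom) = DerivedCategory.Q.map (b.hom ≫ g₂.hom)
      rw [Functor.map_comp, Functor.map_comp, ← hab]
      simp)
    obtain ⟨G₅, δ, hδ, hloc'⟩ := exists_loc_eq hX (γ ≫ a ≫ h₁) (γ ≫ b ≫ h₂) (by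
      rw [← hΦ, ← hΦ]
      refine congrArg InducedCategory.Hom.hom ?_
      simp only [Functor.map_comp, ← e₁, ← e₂] at hloc ⊢
      rw [hf, ← Functor.map_comp_assoc, ← Functor.map_comp_assoc]
      simp only [Category.assoc, hloc]
      simp only [Functor.map_comp, Category.assoc])
    haveI : IsIso ((spQis X).Q.map (δ ≫ γ ≫ a ≫ g₁)) :=
      Localization.inverts (spQis X).Q (spQis X) _ (spQis_comp hδ (spQis_comp hγ (spQis_comp ha hg₁)))
    rw [← cancel_epi ((spQis X).Q.map (δ ≫ γ ≫ a ≫ g₁))]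
    simp only [Functor.map_comp, Category.assoc] at hloc hloc' ⊢
    refine Eq.trans ?_ (congrArg ((spQis X).Q.map δ ≫ ·) (((Category.assoc _ _ _).trans (congrArg ((spQis X).Q.map γ ≫ ·) (Category.assoc _ _ _))).symm.trans ((@CategoryTheory.eq_whisker _ _ _ _ _ _ _ hloc f₂).symm.trans ((Category.assoc _ _ _).trans (congrArg ((spQis X).Q.map γ ≫ ·) (Category.assoc _ _ _))))))
    exact (congrArg (fun t => (spQis X).Q.map δ ≫ (spQis X).Q.map γ ≫ (spQis X).Q.map a ≫ t) e₁).trans
      (hloc'.trans (congrArg (fun t => (spQis X).Q.map δ ≫ (spQis X).Q.map γ ≫ (spQis X).Q.map b ≫ t) e₂.symm))⟩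
  haveI : Φ.EssSurj := ⟨fun K => by
    obtain ⟨E, hE, ⟨e⟩⟩ := exists_strictlyPerfect_iso hX K.property
    exact ⟨(spQis X).Q.obj ⟨E, hE⟩, ⟨ObjectProperty.isoMk _ e⟩⟩⟩
  exact ⟨hinv, { }⟩

end GrothLib.StrictRes20
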